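import Cfsg.Agent.H1.J2Cover
import Cfsg.Agent.NotCT.Orders

/-!
# Every element of the Hall-Janko group is a commutator (helper300)

Every element is conjugate to one of 21 words (`H1/J2Cover.lean`); each word is an explicit commutator.
-/

set_option autoImplicit false

namespace Cfsg.Agent.H300.Ore.JTwo

open Cfsg Cfsg.Agent.SporadicA.PermTab Cfsg.Agent.SporadicA.J2Hundred Cfsg.Agent.J2.HundredGens
open Cfsg.Agent.H1.J2Cls Cfsg.Agent.H1.J2Cover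

universe u

/-- the pairs of words -/
def pr (j : ℕ) : List ℕ × List ℕ :=
  match j with
  | 0 => ([], [])
  | 1 => ([2], [3, 2, 3])
  | 2 => ([2, 3, 4, 1], [0, 1, 2, 3, 4, 2, 3, 1, 2, 3, 2, 1, 0, 1, 2, 3, 2, 0, 1])
  | 3 => ([0], [1, 0, 1])
  | 4 => ([1], [2])
  | 5 => ([4, 2, 3, 1, 2, 3], [1, 2, 3, 0, 1, 0, 1, 2, 3, 4, 1, 2, 3, 2, 1, 0])
  | 6 => ([3], [4])
  | 7 => ([0, 1, 0], [1, 2, 1])
  | 8 => ([4, 0, 1, 2], [1, 2, 3, 4, 2, 3, 0, 1, 2, 3, 4, 2, 3, 1, 0, 1, 2, 3])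
  | 9 => ([3], [4, 2, 3, 2])
  | 10 => ([3, 1, 2], [3, 1, 2, 0, 1, 0, 1, 2, 3, 2, 3, 4, 1, 2, 3, 2, 3, 4, 1, 0])
  | 11 => ([3, 1, 2, 0, 1, 0, 1], [4, 2, 0])
  | 12 => ([3, 4, 3, 0, 1, 2, 3, 0], [4, 3, 2, 3, 1, 2, 3, 4, 3, 2, 3, 1, 0, 1, 2])
  | 13 => ([3, 0], [4, 1, 0, 1])
  | 14 => ([3], [2])
  | 15 => ([2, 3, 4], [3, 2, 0, 1])
  | 16 => ([2, 1, 0, 1, 0], [3, 1])
  | 17 => ([3, 4, 3, 0], [2, 3, 1, 0, 1])
  | 18 => ([2, 3, 4, 2, 1, 0, 1, 2, 3], [1, 2, 3, 4, 3, 1, 2, 3, 2, 1, 0])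
  | 19 => ([4, 3, 2, 0], [4, 0, 1, 2])
  | _ => ([3, 2, 1], [2, 3, 4, 3, 0, 1])

/-- the commutator word -/
def cw (A B : List ℕ) : List ℕ := A ++ B ++ A.reverse ++ B.reverse

theorem gw_cw (A B : List ℕ) : gw (cw A B) = gw A * gw B * (gw A)⁻¹ * (gw B)⁻¹ := by
  rw [cw, gw_append, gw_append, gw_append, gw_reverse, gw_reverse]

set_option maxRecDepth 100000 in
theorem chk_pr : ∀ j < 21, ∀ i < 4, run (rL j) (bs i) = run (cw (pr j).1 (pr j).2) (bs i) := by decide +kernel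

theorem rep_comm {j : ℕ} (hj : j < 21) : gw (rL j) = gw (pr j).1 * gw (pr j).2 * (gw (pr j).1)⁻¹ * (gw (pr j).2)⁻¹ := by
  rw [← gw_cw]
  exact Subtype.ext (pw_eq_of_base (chk_pr j hj))

theorem ore_model (g : G) : ∃ a b : G, g = a * b * a⁻¹ * b⁻¹ := by
  obtain ⟨j, hj, c, hc⟩ := cover g
  have h := rep_comm hj
  rw [← hc] at h
  have h2 : g = c⁻¹ * (c * g * c⁻¹) * c := by group
  rw [h] at h2
  refine ⟨c⁻¹ * gw (pr j).1 * c, c⁻¹ * gw (pr j).2 * c, h2.trans ?_⟩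
  group

/-- **Ore's theorem for the Hall-Janko group** -/
theorem ore_j2 {S : Type u} [Group S] (h : Spor.IsoJ2 S) (g : S) : ∃ a b : S, g = a * b * a⁻¹ * b⁻¹ := by
  obtain ⟨f⟩ := J2.HundredGens.J2_iso (NotCT.Orders.j2 ⟨MulEquiv.refl _⟩)
  obtain ⟨e⟩ := h
  obtain ⟨a, b, hab⟩ := ore_model ((e.trans f) g)
  refine ⟨(e.trans f).symm a, (e.trans f).symm b, ?_⟩
  apply (e.trans f).injective
  rw [map_mul, map_mul, map_mul, map_inv, map_inv, MulEquiv.apply_symm_apply, MulEquiv.apply_symm_apply, hab]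

end Cfsg.Agent.H300.Ore.JTwo
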